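import Groth.Agent.CohDim.K685.SetCI
import Groth.Agent.S0014

/-!
# Infinite-dimensional cohomology of the complement of a closed set, including components of codimension one
-/

set_option autoImplicit false
universe u
open CategoryTheory CategoryTheory.Limits AlgebraicGeometry TopologicalSpace

namespace K261.ExNotFin

open Groth.Agent K685 K685.Isol

variable {k : Type u} [Field k]

/-- A nonempty open subscheme of a proper integral curve, not the whole curve, has infinite-dimensional `H^0`. -/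
theorem not_finite_curve (W : Scheme.{u}) [W.Over (Spec (CommRingCat.of k))]
    [IsProper (W ↘ Spec (CommRingCat.of k))] [IsIntegral W]
    (hW : topologicalKrullDim W = ((1 : ℕ) : WithBot ℕ∞)) (B : W.Opens) (hB : B ≠ ⊤) (hne : (B : Set W).Nonempty) :
    ¬ Module.Finite k (Coh.HH (B : Scheme.{u}) (Coh.structureModule (B : Scheme.{u})) 0) := by
  have hN : IsNoetherian W := Localalg.LichtAsm.isNoetherian (W ↘ Spec (CommRingCat.of k))
  have hc : CompactSpace (B : Scheme.{u}) :=
    isCompact_iff_compactSpace.mp (TopologicalSpace.NoetherianSpace.isCompact (B : Set W))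
  have hNB : IsNoetherian (B : Scheme.{u}) := {}
  have haff : IsAffine (B : Scheme.{u}) := by
    refine S0014.result (B : Scheme.{u}) fun I _ _ hI hft => ?_
    exact Licht.subsingleton_of_ne_top (W ↘ Spec (CommRingCat.of k)) 1 hW.le B hB hne I ⟨hI, hft⟩
  refine SetCI.not_finite_H0 W ?_ B haff hne
  rw [hW]
  exact_mod_cast one_pos

/-- The complement of a closed subset with an irreducible component of dimension at most `z` in a proper variety of
dimension `n ≥ z + 1` has infinite-dimensional coherent cohomology in some degree at least `n - z - 1`. -/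
theorem exists_not_finite_compl (X : Scheme.{u}) [X.Over (Spec (CommRingCat.of k))]
    [IsProper (X ↘ (Spec (CommRingCat.of k)))] [IsIntegral X]
    (n : ℕ) (hdim : topologicalKrullDim X = n) (U : X.Opens)
    (Z : Set ((U : Set X)ᶜ : Set X)) (hZ : Z ∈ irreducibleComponents ((U : Set X)ᶜ : Set X))
    (z : ℕ) (hz : topologicalKrullDim Z ≤ z) (hzn : z + 1 ≤ n) :
    ∃ e : ℕ, n ≤ z + e + 1 ∧ ∃ F : (U : Scheme.{u}).Modules, Coh.IsCoh F ∧
      ¬ Module.Finite k (Coh.HH (U : Scheme.{u}) F e) := by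
  have hN : IsNoetherian X := Localalg.LichtAsm.isNoetherian (X ↘ Spec (CommRingCat.of k))
  have hJ : JacobsonSpace X := LocallyOfFiniteType.jacobsonSpace (X ↘ Spec (CommRingCat.of k))
  have hYc : IsClosed ((U : Set X)ᶜ) := U.2.isClosed_compl
  have hNY : NoetherianSpace ((U : Set X)ᶜ : Set X) := inferInstance
  obtain ⟨o, ho, hone, hoZ⟩ := NoetherianSpace.exists_isOpen_nonempty_subset_irreducibleComponent Z hZ
  have hlc : IsLocallyClosed (((↑) : ((U : Set X)ᶜ : Set X) → X) '' o) := by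
    obtain ⟨o', ho', rfl⟩ := isOpen_induced_iff.mp ho
    rw [Subtype.image_preimage_coe]
    exact hYc.isLocallyClosed.inter ho'.isLocallyClosed
  obtain ⟨P, ⟨⟨P', hP'o, rfl⟩, hP⟩⟩ := nonempty_inter_closedPoints
    (hone.image _) hlc
  have hPc : IsClosed ({P'.1} : Set X) := hP
  -- generizations of `P` in `Y` lie in `Z`
  have hgen : ∀ (t : X) (ht : t ∈ (U : Set X)ᶜ), t ⤳ P'.1 → (⟨t, ht⟩ : ((U : Set X)ᶜ : Set X)) ∈ Z := by
    intro t ht htP
    apply hoZ
    have h1 : (⟨t, ht⟩ : ((U : Set X)ᶜ : Set X)) ⤳ P' := Topology.IsInducing.subtypeVal.specializes_iff.mp htP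
    exact h1.mem_open ho hP'o
  let g := X.fromSpecStalk P'.1
  have hgr : ∀ p, g p ⤳ P'.1 := fun p => by
    have h1 : g p ∈ Set.range g := ⟨p, rfl⟩
    rw [Scheme.range_fromSpecStalk] at h1
    exact h1
  let D : Set X := ((↑) : ((U : Set X)ᶜ : Set X) → X) '' Z
  have hDc : IsClosed D := hYc.isClosedEmbedding_subtypeVal.isClosedMap _
    (isClosed_of_mem_irreducibleComponents Z hZ)
  have hDdim : topologicalKrullDim D ≤ z := by
    refine le_trans (le_of_eq ?_) hz
    exact (IsHomeomorph.topologicalKrullDim_eq _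
      (Topology.IsEmbedding.subtypeVal.homeomorphImage Z).isHomeomorph).symm
  let I : Ideal (X.presheaf.stalk P'.1) := PrimeSpectrum.vanishingIdeal (g ⁻¹' D)
  have hI : ∀ p : PrimeSpectrum (X.presheaf.stalk P'.1), I ≤ p.asIdeal ↔ g p ∈ D := by
    intro p
    have h1 : PrimeSpectrum.zeroLocus (I : Set (X.presheaf.stalk P'.1)) = g ⁻¹' D := by
      rw [PrimeSpectrum.zeroLocus_vanishingIdeal_eq_closure]
      exact (hDc.preimage g.continuous).closure_eq
    exact (Set.ext_iff.mp h1) p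
  have hcl : g (IsLocalRing.closedPoint _) = P'.1 := Scheme.fromSpecStalk_closedPoint
  have hItop : I ≠ ⊤ := by
    have h1 : I ≤ (IsLocalRing.closedPoint (X.presheaf.stalk P'.1)).asIdeal := by
      rw [hI, hcl]
      exact ⟨P', hoZ hP'o, rfl⟩
    exact fun h => (IsLocalRing.closedPoint (X.presheaf.stalk P'.1)).2.ne_top (top_unique (h ▸ h1))
  have hId : ringKrullDim (X.presheaf.stalk P'.1 ⧸ I) ≤ z :=
    (ringKrullDim_quot_le P'.1 D I fun p hp => (hI p).mp hp).trans hDdim
  obtain ⟨q, hq, hqd, hqI⟩ := SopCut.exists_cut (X.presheaf.stalk P'.1) I hItop z n hId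
    (by rw [Fga.DimCut.ringKrullDim_stalk_eq k X P'.1 hPc, hdim])
  let w : X := g ⟨q, hq⟩
  obtain ⟨W, i, hi, hWint, hiw, hir⟩ := Fga.IntegralSub.exists_integral_closed w
  let _ : W.Over (Spec (CommRingCat.of k)) := ⟨i ≫ (X ↘ Spec (CommRingCat.of k))⟩
  have hWp : IsProper (W ↘ Spec (CommRingCat.of k)) := by
    change IsProper (i ≫ (X ↘ Spec (CommRingCat.of k)))
    infer_instance
  have hWr : topologicalKrullDim W = topologicalKrullDim (closure {w} : Set X) := by
    rw [← hir]
    exact IsHomeomorph.topologicalKrullDim_eq _ i.isClosedEmbedding.isEmbedding.toHomeomorph.isHomeomorph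
  have hWd1 : ((n - z : ℕ) : WithBot ℕ∞) ≤ topologicalKrullDim W := by
    rw [hWr]
    refine hqd.trans (ringKrullDim_quot_le P'.1 _ q fun p hp => ?_)
    have h1 : (⟨q, hq⟩ : PrimeSpectrum (X.presheaf.stalk P'.1)) ⤳ p :=
      (PrimeSpectrum.le_iff_specializes _ _).mp hp
    exact (h1.map g.continuous).mem_closed isClosed_closure (subset_closure rfl)
  have hWd2 : topologicalKrullDim W ≤ n := by
    rw [← hdim]
    exact i.isClosedEmbedding.isEmbedding.isInducing.topologicalKrullDim_le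
  obtain ⟨d, hd, hnd⟩ := exists_nat_dim n (n - z) hWd1 hWd2
  obtain ⟨e, rfl⟩ : ∃ e, d = e + 1 := ⟨d - 1, by lia⟩
  -- the point of `W` over `P`
  have hPW : P'.1 ∈ Set.range i := by
    rw [hir]
    exact specializes_iff_mem_closure.mp (hgr _)
  obtain ⟨Q, hQ⟩ := hPW
  have hQc : IsClosed ({Q} : Set W) := by
    have h1 : ({Q} : Set W) = i ⁻¹' {P'.1} := by
      ext x
      simp only [Set.mem_singleton_iff, Set.mem_preimage]
      rw [← hQ]
      exact i.isClosedEmbedding.injective.eq_iff.symm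
    rw [h1]
    exact hPc.preimage i.continuous
  have hNW : IsNoetherian W := Localalg.LichtAsm.isNoetherian (W ↘ Spec (CommRingCat.of k))
  have hiso : ∀ t ∈ (((i ⁻¹ᵁ U : W.Opens) : Set W)ᶜ), t ⤳ Q → t = Q := by
    intro t ht htQ
    have h1 : i t ⤳ P'.1 := hQ ▸ htQ.map i.continuous
    have h2 : i t ∈ Set.range g := by
      rw [Scheme.range_fromSpecStalk]
      exact h1
    obtain ⟨p, hp⟩ := h2
    have h3 : I ≤ p.asIdeal := by
      refine (hI p).mpr ?_
      rw [hp]
      exact ⟨⟨i t, ht⟩, hgen (i t) ht h1, rfl⟩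
    have h4 : q ≤ p.asIdeal := by
      have h5 : w ⤳ g p := by
        rw [hp, specializes_iff_mem_closure, ← hir]
        exact ⟨t, rfl⟩
      have h6 : (⟨q, hq⟩ : PrimeSpectrum (X.presheaf.stalk P'.1)) ⤳ p :=
        g.isEmbedding.isInducing.specializes_iff.mp h5
      exact (PrimeSpectrum.le_iff_specializes _ _).mpr h6
    have h5 : p = IsLocalRing.closedPoint (X.presheaf.stalk P'.1) :=
      PrimeSpectrum.ext (hqI p.asIdeal p.2 h4 h3)
    apply i.isClosedEmbedding.injective
    rw [← hp, h5, hcl, hQ]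
  obtain ⟨O, hQO, hO⟩ := exists_open_isolated (((i ⁻¹ᵁ U : W.Opens) : Set W)ᶜ)
    (i ⁻¹ᵁ U).2.isClosed_compl Q hQc hiso
  obtain ⟨V, hV, hQV, hVO⟩ := exists_isAffineOpen_mem_and_subset (X := W) (x := Q) (U := O) hQO
  have hcase : ∃ G : ((i ⁻¹ᵁ U : W.Opens) : Scheme.{u}).Modules, Coh.IsCoh G ∧
      ¬ Module.Finite k (Coh.HH ((i ⁻¹ᵁ U : W.Opens) : Scheme.{u}) G e) := by
    rcases Nat.eq_zero_or_pos e with rfl | hepos
    · refine ⟨Coh.structureModule _, CurvesB.UnitCoh.isCoh_structureModule _, ?_⟩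
      refine not_finite_curve W (by simpa using hd) (i ⁻¹ᵁ U) (fun h => P'.2 ?_) ?_
      · have h1 : Q ∈ (i ⁻¹ᵁ U : W.Opens) := h ▸ (trivial : Q ∈ (⊤ : W.Opens))
        exact hQ ▸ h1
      · by_contra hemp
        rw [Set.not_nonempty_iff_eq_empty] at hemp
        have h1 : ∀ t : W, t ⤳ Q → t = Q := fun t ht => hiso t (by rw [hemp]; exact fun h => h) ht
        have h2 : genericPoint W = Q := h1 _ (genericPoint_specializes Q)
        have h3 : (Set.univ : Set W) = {Q} := by
          have h4 := (genericPoint_spec W).def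
          rw [h2, hQc.closure_eq] at h4
          exact h4.symm
        have h5 : Subsingleton W := ⟨fun x y => by
          have hx : x ∈ ({Q} : Set W) := h3 ▸ Set.mem_univ x
          have hy : y ∈ ({Q} : Set W) := h3 ▸ Set.mem_univ y
          rw [Set.mem_singleton_iff.mp hx, Set.mem_singleton_iff.mp hy]⟩
        have h6 := topologicalKrullDim_zero_of_discreteTopology W
        rw [hd] at h6
        have : (0 + 1 : ℕ) ≤ 0 := by exact_mod_cast h6
        lia
    · obtain ⟨F, hF, hnf⟩ := Punct.exists_not_finite (k := k) W e hepos hd V (i ⁻¹ᵁ U) hV Q hQc hQV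
        (fun h => P'.2 (hQ ▸ h)) (fun x hxV hxU => hO x (hVO hxV) hxU)
      exact ⟨F.restrict (i ⁻¹ᵁ U).ι, PerfA.CohSerre.isCoh_restrict _ hF, hnf⟩
  obtain ⟨G, hG, hnf⟩ := hcase
  refine ⟨e, by lia, (Coh.push (i ∣_ U)).obj G, ?_, fun hfin => hnf ?_⟩
  · exact ⟨CohqA.AffPush.isQCoh_push _ _ hG.1, CohqA.AffPush.isFT_push _ _ hG.1 hG.2⟩
  · obtain ⟨E⟩ := VarietyB.HHPush.exists_linearEquiv (i ∣_ U) k (by
      change (i ∣_ U) ≫ U.ι ≫ (X ↘ Spec (CommRingCat.of k)) = (i ⁻¹ᵁ U).ι ≫ i ≫ (X ↘ Spec (CommRingCat.of k))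
      rw [← Category.assoc, morphismRestrict_ι, Category.assoc]) G hG.1 e
    exact Module.Finite.equiv E

end K261.ExNotFin
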