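import Groth.Statements.S11387
import Groth.Agent.Lef.K184.FormalHH
import Groth.Agent.Dual.H367.IdMul
import Groth.Agent.CohDim.K261.ExNotFin
import Groth.Agent.CohDim.K685.CdProj
import Groth.Agent.CohDim.K685.FinLes
import Groth.Agent.VBPn.K700.HDim

/-!
# `q(U)` from the finiteness of the cohomology of the negative twists
-/

set_option autoImplicit false
universe u
open CategoryTheory CategoryTheory.Limits AlgebraicGeometry TopologicalSpace
open CohDim

namespace K261.Final

open Groth.Agent Groth.Agent.CurvesC K685 K685.CdProj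

section NegSum

variable {X : Scheme.{u}} (k : Type u) [Field k] [X.Over (Spec (CommRingCat.of k))]

theorem finite_negSum {M : X.Modules} {n₀ : ℕ} {E : X.Modules}
    (h : ResolAmple.NegSum M n₀ E) (i : ℕ)
    (hv : ∀ m : ℕ, n₀ ≤ m → Module.Finite k (Coh.HH X (CohB1.tensorPow M m) i)) :
    Module.Finite k (Coh.HH X E i) := by
  obtain ⟨N, hN, κ, _, ⟨e⟩⟩ := h
  obtain ⟨n, ⟨f⟩⟩ := Finite.exists_equiv_fin κ
  let e' : (∐ fun _ : κ => CohB1.tensorPow M N) ≅ (∐ fun _ : Fin n => CohB1.tensorPow M N) :=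
    Sigma.whiskerEquiv (g := fun _ : Fin n => CohB1.tensorPow M N) f (fun _ => Iso.refl _)
  exact K700.HDim.finite_iso k (e ≪≫ e').symm i (K700.HDim.finite_sigma k _ i fun _ => hv N hN)

end NegSum

theorem final (k : Type u) [Field k] [IsAlgClosed k] (n : ℕ)
    (𝓘 : (CohB1.ProjSpace n k).IdealSheafData)
    (s : ℕ) (hs : s + 1 ≤ n)
    (hequi : ∀ Z ∈ irreducibleComponents (𝓘.support : Set (CohB1.ProjSpace n k)), topologicalKrullDim Z = s)
    (hne : (𝓘.support : Set (CohB1.ProjSpace n k)).Nonempty)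
    (U : (CohB1.ProjSpace n k).Opens)
    (hU : (U : Set (CohB1.ProjSpace n k)) = (𝓘.support : Set (CohB1.ProjSpace n k))ᶜ)
    (H : ∀ m i : ℕ, n - s - 1 < i → i ≤ n →
      Module.Finite k (Coh.HH (U : Scheme.{u}) ((Twist.twistProjSpace n k (-(m : ℤ))).restrict U.ι) i)) :
    (∀ F : (U : Scheme.{u}).Modules, Coh.IsCoh F → ∀ i : ℕ, n - s - 1 < i →
        Module.Finite k (Coh.HH (U : Scheme.{u}) F i)) ∧
      ∃ F : (U : Scheme.{u}).Modules, Coh.IsCoh F ∧
        ¬ Module.Finite k (Coh.HH (U : Scheme.{u}) F (n - s - 1)) := by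
  have hp : IsProper (CohB1.ProjSpace n k ↘ Spec (CommRingCat.of k)) := Ega3B.ProjProper.isProper_toSpec n k
  have hN : IsNoetherian (CohB1.ProjSpace n k) := Localalg.LichtAsm.isNoetherian (CohB1.ProjSpace n k ↘ Spec (CommRingCat.of k))
  have hNU : IsNoetherian (U : Scheme.{u}) := by
    have h1 : IsLocallyNoetherian (U : Scheme.{u}) := inferInstance
    have h2 : CompactSpace (U : Scheme.{u}) :=
      isCompact_iff_compactSpace.1 (NoetherianSpace.isCompact (U : Set (CohB1.ProjSpace n k)))
    exact ⟨⟩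
  have hint : IsIntegral (CohB1.ProjSpace n k) := inferInstance
  have hdP := SetCI.dim_projSpace k n
  have hdU : topologicalKrullDim (U : Scheme.{u}) ≤ n := (Licht.dim_opens_le U).trans hdP.le
  have hample : CohB1.IsAmple ((Twist.twistProjSpace n k 1).restrict U.ι) :=
    CalgB.ProjImm.isAmple_restrict_of_isCompact (VarietyA.AmpleField.isAmple_twistProjSpace n k) U
      (NoetherianSpace.isCompact (U : Set (CohB1.ProjSpace n k)))
  have hge : ∀ (G : (U : Scheme.{u}).Modules) (j : ℕ), n < j →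
      Subsingleton (Coh.HH (U : Scheme.{u}) G j) := by
    exact fun G j hj => Fga.EulerLEAdd.subsingleton_HH _ n hdU G j hj
  have hM := isInverseOf k n U
  have hfin : ∀ F : (U : Scheme.{u}).Modules, Coh.IsCoh F → ∀ i : ℕ, n - s - 1 < i →
      Module.Finite k (Coh.HH (U : Scheme.{u}) F i) := by
    intro F hF i hi
    refine Resol.descend' (ResolAmple.NegSum ((Twist.twistProjSpace n k (-1)).restrict U.ι) 0)
      (fun G hG => by
        obtain ⟨E, π, hE, hπ⟩ := ResolAmple.exists_negSum hample hM 0 hG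
        exact ⟨E, π, hE, hE.isCoh (ResolAmple.isInvertible_of_isInverseOf hample.1 hM), hπ⟩)
      (fun G j => Module.Finite k (Coh.HH (U : Scheme.{u}) G j)) (n - s - 1) (n + 1)
      (fun E hE j hj => ?_) (fun G hG j hj => ?_)
      (fun T hT j h2 h1 => FinLes.finite₃ k hT j h2 h1) F hF i hi
    · rcases lt_or_ge n j with hnj | hnj
      · have := hge E j hnj
        infer_instance
      · refine finite_negSum k hE j fun m _ => ?_
        obtain ⟨e⟩ := pow_iso k n U m
        exact K700.HDim.finite_iso k e.symm j (H m j hj hnj)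
    · have := hge G j (by lia)
      infer_instance
  refine ⟨hfin, ?_⟩
  have hc : ((U : Set (CohB1.ProjSpace n k))ᶜ : Set (CohB1.ProjSpace n k)) =
      (𝓘.support : Set (CohB1.ProjSpace n k)) := by rw [hU, compl_compl]
  obtain ⟨x, hx⟩ := hne
  have hx' : x ∈ ((U : Set (CohB1.ProjSpace n k))ᶜ : Set (CohB1.ProjSpace n k)) := hc ▸ hx
  have hdim : ∀ Z ∈ irreducibleComponents ((U : Set (CohB1.ProjSpace n k))ᶜ : Set (CohB1.ProjSpace n k)),
      topologicalKrullDim Z = s := by
    rw [hc]
    exact hequi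
  let x' : ((U : Set (CohB1.ProjSpace n k))ᶜ : Set (CohB1.ProjSpace n k)) := ⟨x, hx'⟩
  obtain ⟨e, he, F, hF, hnf⟩ := ExNotFin.exists_not_finite_compl (k := k) (CohB1.ProjSpace n k) n hdP U
    (irreducibleComponent x') (irreducibleComponent_mem_irreducibleComponents x') s
    (hdim _ (irreducibleComponent_mem_irreducibleComponents x')).le hs
  have he' : e = n - s - 1 := by
    by_contra hne
    exact hnf (hfin F hF e (by lia))
  exact ⟨F, hF, he' ▸ hnf⟩

end K261.Final
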